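import Cfsg.Agent.R2.PX.W.Ys

/-! # Part B of pattern X: the relation `(★)`  `a^2 (Σ y_{X|0Y} - 2 a v_1) = F h`. -/

namespace Cfsg.Agent.R2.PX.W

open Equiv

set_option linter.unusedSimpArgs false
set_option maxHeartbeats 1000000

variable {k V : Type*} [Field k] [AddCommGroup V] [Module k V]
variable {S : Fts k V} {v : Fin 8 → V}

def fco : Fin 28 → ℤ := ![0, 0, 0, 0, 0, 0, 0, 0, 0, 0, 0, 0, 0, 0, 0, 0, 0, 0, 0, -1, 0, 0, 0, 0, 0, 0, 0, 0]

theorem fco_hsv : ∀ i : Fin 28, (fco i + hsv (q0 i) (q1 i) (q2 i) (q3 i) (q4 i)) % 5 = 0 := by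
  decide +kernel

/-- `om(v_i, t_xyz) = vt * a` -/
def vt (i x y z : Fin 8) : ℕ := if i = x ∨ i = y ∨ i = z then 0 else 1

theorem tcheck : ∀ j : Fin 28,
    (sv 2 3 0 4 5 (c0 j) (c1 j) (c2 j) + sv 2 3 0 6 7 (c0 j) (c1 j) (c2 j)
      + sv 4 5 0 2 3 (c0 j) (c1 j) (c2 j) + sv 4 5 0 6 7 (c0 j) (c1 j) (c2 j)
      + sv 6 7 0 2 3 (c0 j) (c1 j) (c2 j) + sv 6 7 0 4 5 (c0 j) (c1 j) (c2 j)) % 5
      = 2 * vt 1 (c0 j) (c1 j) (c2 j) := by
  decide +kernel

namespace IsCfg

theorem om_vT_val (h : IsCfg S v) {i x y z : Fin 8} (nd : [x, y, z].Nodup) :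
    S.om (v i) (T S v x y z) = (vt i x y z : k) * aa S v := by
  unfold vt
  split_ifs with hi
  · rcases hi with rfl | rfl | rfl
    · rw [h.om_vT1]; simp
    · rw [h.om_vT2]; simp
    · rw [h.om_vT3]; simp
  · push Not at hi
    rw [h.om_vT]
    · simp
    · simp only [List.nodup_cons, List.mem_cons, not_or, List.not_mem_nil, not_false_eq_true,
        List.nodup_nil, and_true] at nd ⊢
      exact ⟨hi, nd⟩

theorem cast_mod5 (h : IsCfg S v) (n : ℕ) : ((n % 5 : ℕ) : k) = (n : k) := by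
  conv_rhs => rw [← Nat.div_add_mod n 5]
  push_cast
  rw [h.five, zero_mul, zero_add]

theorem cast_int5 (h : IsCfg S v) {n : ℤ} (hn : n % 5 = 0) : (n : k) = 0 := by
  obtain ⟨m, rfl⟩ := Int.dvd_of_emod_eq_zero hn
  push_cast
  rw [h.five, zero_mul]

theorem ys_all (h : IsCfg S v) (i : Fin 28) :
    S.om (ysum S v) (yw S v i) = (fco i : k) * FF S v := by
  have z : ∀ n : ℤ, n = 0 → (0 : k) = (n : k) * FF S v := fun n hn => by rw [hn]; simp
  have m : ∀ n : ℤ, n = -1 → - FF S v = (n : k) * FF S v := fun n hn => by rw [hn]; simp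
  fin_cases i
  · exact (h.ys_0).trans (z _ rfl)
  · exact (h.ys_1).trans (z _ rfl)
  · exact (h.ys_2).trans (z _ rfl)
  · exact (h.ys_3).trans (z _ rfl)
  · exact (h.ys_4).trans (z _ rfl)
  · exact (h.ys_5).trans (z _ rfl)
  · exact (h.ys_6).trans (z _ rfl)
  · exact (h.ys_7).trans (z _ rfl)
  · exact (h.ys_8).trans (z _ rfl)
  · exact (h.ys_9).trans (z _ rfl)
  · exact (h.ys_10).trans (z _ rfl)
  · exact (h.ys_11).trans (z _ rfl)
  · exact (h.ys_12).trans (z _ rfl)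
  · exact (h.ys_13).trans (z _ rfl)
  · exact (h.ys_14).trans (z _ rfl)
  · exact (h.ys_15).trans (z _ rfl)
  · exact (h.ys_16).trans (z _ rfl)
  · exact (h.ys_17).trans (z _ rfl)
  · exact (h.ys_18).trans (z _ rfl)
  · exact (h.ys_19).trans (m _ rfl)
  · exact (h.ys_20).trans (z _ rfl)
  · exact (h.ys_21).trans (z _ rfl)
  · exact (h.ys_22).trans (z _ rfl)
  · exact (h.ys_23).trans (z _ rfl)
  · exact (h.ys_24).trans (z _ rfl)
  · exact (h.ys_25).trans (z _ rfl)
  · exact (h.ys_26).trans (z _ rfl)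
  · exact (h.ys_27).trans (z _ rfl)

/-- `(★)` -/
theorem star (h : IsCfg S v) (ha : aa S v ≠ 0) (hd : Module.finrank k V = 56)
    (hn : ∀ x, (∀ y, S.om x y = 0) → x = 0) :
    aa S v ^ 2 • (ysum S v - (2 * aa S v) • v 1) = FF S v • hh S v := by
  rw [← sub_eq_zero]
  refine h.eq_zero_of ha hd hn (fun j => ?_) fun i => ?_
  · have e0 : S.om (hh S v) (tw S v j) = 0 := by
      simp only [hh, tw, map_add, map_sub, LinearMap.add_apply, LinearMap.sub_apply, h.om_TT,
        add_zero, sub_zero]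
    have e1 : S.om (ysum S v) (tw S v j) = ((2 * vt 1 (c0 j) (c1 j) (c2 j) : ℕ) : k)
        * aa S v ^ 2 := by
      rw [← tcheck, h.cast_mod5]
      simp only [ysum, tw, map_add, LinearMap.add_apply]
      rw [h.om_YT_val (by decide) (nodup_c j), h.om_YT_val (by decide) (nodup_c j),
        h.om_YT_val (by decide) (nodup_c j), h.om_YT_val (by decide) (nodup_c j),
        h.om_YT_val (by decide) (nodup_c j), h.om_YT_val (by decide) (nodup_c j)]
      push_cast
      ring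
    have e2 : S.om (v 1) (tw S v j) = (vt 1 (c0 j) (c1 j) (c2 j) : k) * aa S v :=
      h.om_vT_val (nodup_c j)
    simp only [map_sub, map_smul, LinearMap.sub_apply, LinearMap.smul_apply, smul_eq_mul, e0, e1,
      e2]
    push_cast
    ring
  · have e0 : S.om (hh S v) (yw S v i)
        = - ((hsv (q0 i) (q1 i) (q2 i) (q3 i) (q4 i) : ℤ) : k) * aa S v ^ 2 :=
      h.om_hh_Y (nodup_q i)
    have e2 : S.om (v 1) (yw S v i) = 0 := h.om_vY _ _ _ _ _ _
    have e3 := h.cast_int5 (fco_hsv i)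
    push_cast at e3
    simp only [map_sub, map_smul, LinearMap.sub_apply, LinearMap.smul_apply, smul_eq_mul, e0, e2,
      h.ys_all]
    linear_combination (FF S v * aa S v ^ 2) * e3

end IsCfg

end Cfsg.Agent.R2.PX.W
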